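import Mathlib

/-!
# Homomorphisms into an algebra with a finite basis
-/

set_option autoImplicit false
set_option linter.style.haveILetI false

universe u

noncomputable section

namespace Groth.Agent.H23Hom

variable {k C H : Type u} [Field k] [CommRing C] [CommRing H] [Algebra k C] [Algebra k H]
  {ι : Type u} [Fintype ι] (b : Module.Basis ι k H)

open MvPolynomial in
/-- The relations on the coordinates of a homomorphism. -/
inductive Rel : MvPolynomial (C × ι) k → Prop
  | add (c c' : C) (i : ι) : Rel (X (c + c', i) - (X (c, i) + X (c', i)))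
  | smul (r : k) (i : ι) : Rel (X (algebraMap k C r, i) - MvPolynomial.C (b.repr (algebraMap k H r) i))
  | mul (c c' : C) (i : ι) :
      Rel (X (c * c', i) - ∑ a, ∑ a', MvPolynomial.C (b.repr (b a * b a') i) * (X (c, a) * X (c', a')))

/-- The ideal of relations. -/
def relIdeal : Ideal (MvPolynomial (C × ι) k) := Ideal.span {P | Rel b P}

/-- The ring of coordinates of homomorphisms `C → H ⊗ R`. -/
abbrev WRing : Type u := MvPolynomial (C × ι) k ⧸ (relIdeal (C := C) b)

/-- The universal coordinates. -/
def wc (c : C) (i : ι) : WRing (C := C) b := Ideal.Quotient.mk _ (MvPolynomial.X (c, i))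

theorem mk_C (r : k) : Ideal.Quotient.mk (relIdeal (C := C) b) (MvPolynomial.C r) = algebraMap k _ r := rfl

theorem mk_rel {P : MvPolynomial (C × ι) k} (h : Rel b P) : Ideal.Quotient.mk (relIdeal (C := C) b) P = 0 :=
  Ideal.Quotient.eq_zero_iff_mem.2 (Ideal.subset_span h)

theorem wc_add (c c' : C) (i : ι) : wc b (c + c') i = wc b c i + wc b c' i := by
  have h := mk_rel b (Rel.add (b := b) c c' i)
  rw [map_sub, sub_eq_zero, map_add] at h
  exact h

theorem wc_algebraMap (r : k) (i : ι) :
    wc (C := C) b (algebraMap k C r) i = algebraMap k _ (b.repr (algebraMap k H r) i) := by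
  have h := mk_rel (C := C) b (Rel.smul (b := b) r i)
  rw [map_sub, sub_eq_zero, mk_C] at h
  exact h

theorem wc_mul (c c' : C) (i : ι) :
    wc b (c * c') i = ∑ a, ∑ a', algebraMap k _ (b.repr (b a * b a') i) * (wc b c a * wc b c' a') := by
  have h := mk_rel b (Rel.mul (b := b) c c' i)
  rw [map_sub, sub_eq_zero, map_sum] at h
  refine h.trans (Finset.sum_congr rfl fun a _ => ?_)
  rw [map_sum]
  exact Finset.sum_congr rfl fun a' _ => by
    rw [map_mul (Ideal.Quotient.mk _), map_mul (Ideal.Quotient.mk _), mk_C]; rfl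

/-- A finitely generated algebra has a finitely generated ring of coordinates. -/
theorem finiteType_wring [Algebra.FiniteType k C] : Algebra.FiniteType k (WRing (C := C) b) := by
  classical
  obtain ⟨G, hG⟩ := ‹Algebra.FiniteType k C›.out
  let S' : Subalgebra k (WRing (C := C) b) := Algebra.adjoin k ((G ×ˢ Finset.univ).image fun x : C × ι => wc b x.1 x.2)
  have hC : ∀ c : C, ∀ i, wc b c i ∈ S' := by
    intro c
    have hc : c ∈ Algebra.adjoin k (G : Set C) := hG ▸ Algebra.mem_top
    induction hc using Algebra.adjoin_induction with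
    | mem x hx => exact fun i => Algebra.subset_adjoin (Finset.mem_coe.2 (Finset.mem_image.2 ⟨(x, i), by simp [Finset.mem_coe.1 hx], rfl⟩))
    | algebraMap r => exact fun i => wc_algebraMap (C := C) b r i ▸ Subalgebra.algebraMap_mem _ _
    | add x y _ _ hx hy => exact fun i => wc_add b x y i ▸ add_mem (hx i) (hy i)
    | mul x y _ _ hx hy =>
      exact fun i => wc_mul b x y i ▸ sum_mem fun a _ => sum_mem fun a' _ =>
        mul_mem (Subalgebra.algebraMap_mem _ _) (mul_mem (hx a) (hy a'))
  refine ⟨⟨(G ×ˢ Finset.univ).image fun x : C × ι => wc b x.1 x.2, eq_top_iff.2 fun z _ => ?_⟩⟩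
  obtain ⟨P, rfl⟩ := Ideal.Quotient.mk_surjective z
  induction P using MvPolynomial.induction_on with
  | C r => exact Subalgebra.algebraMap_mem _ _
  | add p q hp hq => rw [map_add]; exact add_mem (hp trivial) (hq trivial)
  | mul_X p x hp =>
    rw [map_mul]
    exact mul_mem (hp trivial) (hC x.1 x.2)

/-- Coordinates with values in an algebra. -/
theorem existsUnique_lift {R : Type u} [CommRing R] [Algebra k R] (s : C → ι → R)
    (hadd : ∀ c c' i, s (c + c') i = s c i + s c' i)
    (hsmul : ∀ r i, s (algebraMap k C r) i = algebraMap k R (b.repr (algebraMap k H r) i))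
    (hmul : ∀ c c' i, s (c * c') i = ∑ a, ∑ a', algebraMap k R (b.repr (b a * b a') i) * (s c a * s c' a')) :
    ∃! φ : WRing (C := C) b →ₐ[k] R, ∀ c i, φ (wc b c i) = s c i := by
  let ev : MvPolynomial (C × ι) k →ₐ[k] R := MvPolynomial.aeval fun x => s x.1 x.2
  have hker : ∀ a ∈ relIdeal (C := C) b, ev a = 0 := by
    intro a ha
    refine (Ideal.span_le (I := RingHom.ker ev)).2 (fun P hP => ?_) ha
    show ev P = 0
    cases hP with
    | add c c' i => simp [ev, hadd]
    | smul r i => simp [ev, hsmul]
    | mul c c' i => simp [ev, hmul]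
  refine ⟨Ideal.Quotient.liftₐ _ ev hker, fun c i => ?_, fun φ hφ => ?_⟩
  · show ev (MvPolynomial.X (c, i)) = _
    rw [MvPolynomial.aeval_X]
  · refine Ideal.Quotient.algHom_ext k (MvPolynomial.algHom_ext fun x => ?_)
    show φ (wc b x.1 x.2) = ev (MvPolynomial.X x)
    rw [hφ, MvPolynomial.aeval_X]

end Groth.Agent.H23Hom
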