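import Groth.Agent.H23Hom.Sections
import Groth.Agent.H23Hom.WeilRing
import Mathlib

/-!
# The scheme of morphisms into an affine scheme
-/

set_option autoImplicit false
set_option linter.style.haveILetI false
set_option linter.unusedSectionVars false
set_option backward.isDefEq.respectTransparency false

universe u

open CategoryTheory CategoryTheory.Limits AlgebraicGeometry Opposite TopologicalSpace MonoidalCategory
  CartesianMonoidalCategory

noncomputable section

namespace Groth.Agent.H23Hom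

variable {k : Type u} [Field k]

theorem scl_top {X : Scheme.{u}} (f : X ⟶ Spec (CommRingCat.of k)) :
    scl f ⊤ = ((Scheme.ΓSpecIso (CommRingCat.of k)).inv ≫ f.appTop).hom := by
  rw [scl, Scheme.Hom.appTop, Scheme.Hom.app_eq_appLE]
  rfl

/-- A morphism into an affine scheme given by functions. -/
def toAffine {Y Z : Scheme.{u}} [IsAffine Z] (φ : Γ(Z, ⊤) ⟶ Γ(Y, ⊤)) : Y ⟶ Z :=
  Y.toSpecΓ ≫ Spec.map φ ≫ Z.isoSpec.inv

theorem appTop_toAffine {Y Z : Scheme.{u}} [IsAffine Z] (φ : Γ(Z, ⊤) ⟶ Γ(Y, ⊤)) : (toAffine φ).appTop = φ := by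
  have h : toAffine φ ≫ Z.toSpecΓ = Y.toSpecΓ ≫ Spec.map φ := by
    rw [toAffine, Category.assoc, Category.assoc, Scheme.isoSpec_inv_toSpecΓ, Category.comp_id]
  have h2 := congrArg Scheme.Hom.appTop h
  simp only [Scheme.Hom.comp_appTop, Scheme.toSpecΓ_appTop, Scheme.ΓSpecIso_naturality] at h2
  exact (cancel_epi (Scheme.ΓSpecIso Γ(Z, ⊤)).hom).1 h2

theorem hom_ext_spec {Y : Scheme.{u}} {a b : Y ⟶ Spec (CommRingCat.of k)}
    (h : ∀ c, scl a ⊤ c = scl b ⊤ c) : a = b := by
  refine ext_of_isAffine (CommRingCat.hom_ext (RingHom.ext fun x => ?_))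
  obtain ⟨c, rfl⟩ := (ConcreteCategory.bijective_of_isIso (Scheme.ΓSpecIso (CommRingCat.of k)).inv).2 x
  have h2 := h c
  rw [scl_top, scl_top] at h2
  exact h2

theorem scl_comp {Y X : Scheme.{u}} (p : Y ⟶ X) (f : X ⟶ Spec (CommRingCat.of k)) (c : k) :
    p.appTop (scl f ⊤ c) = scl (p ≫ f) ⊤ c := by
  rw [scl_top, scl_top, Scheme.Hom.comp_appTop]
  rfl

variable {X : Over (Spec (CommRingCat.of k))} {ι : Type u} [Fintype ι]

/-- Combinations of a basis with functions on the second factor, on a product. -/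
def expTop {P : Scheme.{u}} {T : Scheme.{u}} (p : P ⟶ X.left) (q : P ⟶ T) (b : ι → Γ(X.left, ⊤))
    (s : ι → Γ(T, ⊤)) : Γ(P, ⊤) :=
  ∑ i, p.appTop (b i) * q.appTop (s i)

theorem bijective_expTop [CompactSpace X.left] (S : Over (Spec (CommRingCat.of k)))
    {b : ι → Γ(X.left, ⊤)}
    (hb : letI := (scl X.hom ⊤).toAlgebra; LinearIndependent k b ∧ ⊤ ≤ Submodule.span k (Set.range b)) :
    Function.Bijective (expTop (fst X S).left (snd X S).left b) := by
  have H : IsPullback (fst X S).left (snd X S).left X.hom S.hom := IsPullback.of_hasPullback _ _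
  have h := exp_bijective H hb (⊤ : S.left.Opens)
  have hbox : box (fst X S).left (snd X S).left (⊤ : X.left.Opens) (⊤ : S.left.Opens) = ⊤ := by simp [box]
  have he : ∀ s : ι → Γ(S.left, ⊤),
      res hbox.le (expTop (fst X S).left (snd X S).left b s) = exp (fst X S).left (snd X S).left ⊤ b s := fun s => by
    rw [expTop, exp, map_sum]
    refine Finset.sum_congr rfl fun i _ => ?_
    rw [map_mul]
    refine congrArg₂ (· * ·) ?_ ?_
    · exact (congrArg (res hbox.le) (by rw [Scheme.Hom.appTop, Scheme.Hom.app_eq_appLE]; rfl)).trans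
        (ConcreteCategory.congr_hom (Scheme.Hom.appLE_map (fst X S).left (U := ⊤) le_rfl (homOfLE hbox.le).op) (b i))
    · exact (congrArg (res hbox.le) (by rw [Scheme.Hom.appTop, Scheme.Hom.app_eq_appLE]; rfl)).trans
        (ConcreteCategory.congr_hom (Scheme.Hom.appLE_map (snd X S).left (U := ⊤) le_rfl (homOfLE hbox.le).op) (s i))
  have hres : ∀ {U : (X ⊗ S).left.Opens} (e : U = ⊤), Function.Bijective (res (X := (X ⊗ S).left) e.le) := by
    rintro U rfl
    exact ⟨fun a a' h => by rwa [res_self, res_self] at h, fun a => ⟨a, res_self _ a⟩⟩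
  refine ((hres hbox).of_comp_iff' _).1 ?_
  convert h using 1
  exact funext he

theorem fst_scl (S : Over (Spec (CommRingCat.of k))) (r : k) :
    (fst X S).left.appTop (scl X.hom ⊤ r) = (snd X S).left.appTop (scl S.hom ⊤ r) := by
  rw [scl_comp, scl_comp, Over.w, Over.w]

section coords

variable [Algebra k Γ(X.left, ⊤)] (halg : algebraMap k Γ(X.left, ⊤) = scl X.hom ⊤)
  (b : Module.Basis ι k Γ(X.left, ⊤))

/-- A family of coordinates of homomorphisms from the functions of `Z`. -/
structure Coords (b : Module.Basis ι k Γ(X.left, ⊤)) (Z S : Over (Spec (CommRingCat.of k)))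
    (s : Γ(Z.left, ⊤) → ι → Γ(S.left, ⊤)) : Prop where
  add : ∀ c c' i, s (c + c') i = s c i + s c' i
  const : ∀ r i, s (scl Z.hom ⊤ r) i = scl S.hom ⊤ (b.repr (scl X.hom ⊤ r) i)
  mul : ∀ c c' i, s (c * c') i = ∑ a, ∑ a', scl S.hom ⊤ (b.repr (b a * b a') i) * (s c a * s c' a')

include halg in
theorem fst_appTop_eq (S : Over (Spec (CommRingCat.of k))) (h : Γ(X.left, ⊤)) :
    (fst X S).left.appTop h =
      expTop (fst X S).left (snd X S).left b (fun i => scl S.hom ⊤ (b.repr h i)) := by
  conv_lhs => rw [← b.sum_repr h, map_sum]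
  refine Finset.sum_congr rfl fun i _ => ?_
  rw [← fst_scl S, ← map_mul, Algebra.smul_def, halg, mul_comm]

include halg in
theorem expTop_mul (S : Over (Spec (CommRingCat.of k))) (s t : ι → Γ(S.left, ⊤)) :
    expTop (fst X S).left (snd X S).left b s * expTop (fst X S).left (snd X S).left b t =
      expTop (fst X S).left (snd X S).left b
        (fun i => ∑ a, ∑ a', scl S.hom ⊤ (b.repr (b a * b a') i) * (s a * t a')) := by
  simp only [expTop, Finset.sum_mul, Finset.mul_sum, map_sum, map_mul]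
  conv_rhs => rw [Finset.sum_comm]
  rw [Finset.sum_comm]
  refine Finset.sum_congr rfl fun a _ => ?_
  conv_rhs => rw [Finset.sum_comm]
  refine Finset.sum_congr rfl fun a' _ => ?_
  trans (fst X S).left.appTop (b a * b a') * ((snd X S).left.appTop (s a) * (snd X S).left.appTop (t a'))
  · rw [map_mul]; ring
  · rw [fst_appTop_eq halg b S (b a * b a'), expTop, Finset.sum_mul]
    exact Finset.sum_congr rfl fun i _ => by ring

include halg in
theorem scl_fst (S : Over (Spec (CommRingCat.of k))) (r : k) :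
    scl (X ⊗ S).hom ⊤ r =
      expTop (fst X S).left (snd X S).left b (fun i => scl S.hom ⊤ (b.repr (scl X.hom ⊤ r) i)) := by
  rw [← fst_appTop_eq halg b S, scl_comp, Over.w]

include halg in
/-- Coordinates give a morphism to the affine scheme. -/
theorem exists_hom_of_coords {Z S : Over (Spec (CommRingCat.of k))} [IsAffine Z.left]
    {s : Γ(Z.left, ⊤) → ι → Γ(S.left, ⊤)} (hs : Coords b Z S s) :
    ∃ f : X ⊗ S ⟶ Z, ∀ c, f.left.appTop c = expTop (fst X S).left (snd X S).left b (s c) := by
  have hmap1 : expTop (fst X S).left (snd X S).left b (s 1) = 1 := by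
    have h := scl_fst halg b S 1
    rw [map_one (scl (X ⊗ S).hom ⊤)] at h
    rw [h]
    congr 1
    funext i
    rw [← map_one (scl Z.hom ⊤), hs.const]
  have h0 : ∀ i, s 0 i = 0 := fun i => by
    have h := hs.add 0 0 i
    rwa [add_zero, right_eq_add] at h
  let φ : Γ(Z.left, ⊤) →+* Γ((X ⊗ S).left, ⊤) :=
    { toFun := fun c => expTop (fst X S).left (snd X S).left b (s c)
      map_one' := hmap1
      map_zero' := Finset.sum_eq_zero fun i _ => by rw [h0, map_zero, mul_zero]
      map_add' := fun c c' => by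
        rw [expTop, expTop, expTop, ← Finset.sum_add_distrib]
        exact Finset.sum_congr rfl fun i _ => by rw [hs.add, map_add, mul_add]
      map_mul' := fun c c' => by
        rw [expTop_mul halg b S]
        congr 1
        funext i
        rw [hs.mul] }
  have h : toAffine (CommRingCat.ofHom φ) ≫ Z.hom = (X ⊗ S).hom := hom_ext_spec fun r => by
    rw [← scl_comp, appTop_toAffine, scl_fst halg b S]
    show expTop _ _ b (s (scl Z.hom ⊤ r)) = _
    congr 1
    funext i
    rw [hs.const]
  refine ⟨Over.homMk (toAffine (CommRingCat.ofHom φ)) h, fun c => ?_⟩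
  show (toAffine (CommRingCat.ofHom φ)).appTop c = _
  rw [appTop_toAffine]
  rfl

include halg in
/-- A morphism to the affine scheme has coordinates. -/
theorem exists_coords_of_hom [CompactSpace X.left] {Z S : Over (Spec (CommRingCat.of k))}
    (f : X ⊗ S ⟶ Z) :
    ∃ s, Coords b Z S s ∧ ∀ c, f.left.appTop c = expTop (fst X S).left (snd X S).left b (s c) := by
  have hE := bijective_expTop (X := X) S (b := b) (by
    have e : (scl X.hom ⊤).toAlgebra = (inferInstance : Algebra k Γ(X.left, ⊤)) :=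
      Algebra.algebra_ext _ _ fun r => congrFun (congrArg DFunLike.coe halg.symm) r
    rw [e]
    exact ⟨b.linearIndependent, b.span_eq.ge⟩)
  choose s hs using fun c => hE.2 (f.left.appTop c)
  refine ⟨s, ⟨fun c c' i => ?_, fun r i => ?_, fun c c' i => ?_⟩, fun c => (hs c).symm⟩
  · refine congrFun (hE.1 (a₂ := fun i => s c i + s c' i) ?_) i
    rw [hs, map_add, ← hs, ← hs, expTop, expTop, expTop, ← Finset.sum_add_distrib]
    exact Finset.sum_congr rfl fun i _ => by rw [map_add, mul_add]
  · refine congrFun (hE.1 (a₂ := fun i => scl S.hom ⊤ (b.repr (scl X.hom ⊤ r) i)) ?_) i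
    rw [hs, ← scl_fst halg b S, scl_comp, Over.w]
  · refine congrFun (hE.1 (a₂ := fun i => ∑ a, ∑ a', scl S.hom ⊤ (b.repr (b a * b a') i) * (s c a * s c' a')) ?_) i
    rw [hs, map_mul, ← expTop_mul halg b S, hs, hs]

theorem whisker_appTop {S M Z : Over (Spec (CommRingCat.of k))} (ev : X ⊗ M ⟶ Z)
    {w : Γ(Z.left, ⊤) → ι → Γ(M.left, ⊤)}
    (hev : ∀ c, ev.left.appTop c = expTop (fst X M).left (snd X M).left b (w c)) (g : S ⟶ M) (c : Γ(Z.left, ⊤)) :
    ((X ◁ g) ≫ ev).left.appTop c = expTop (fst X S).left (snd X S).left b (fun i => g.left.appTop (w c i)) := by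
  have e1 : (X ◁ g).left ≫ (fst X M).left = (fst X S).left := by rw [← Over.comp_left, whiskerLeft_fst]
  have e2 : (X ◁ g).left ≫ (snd X M).left = (snd X S).left ≫ g.left := by
    rw [← Over.comp_left, whiskerLeft_snd, Over.comp_left]
  rw [Over.comp_left, Scheme.Hom.comp_appTop, CommRingCat.comp_apply, hev, expTop, expTop, map_sum]
  refine Finset.sum_congr rfl fun i _ => ?_
  rw [map_mul, ← CommRingCat.comp_apply, ← Scheme.Hom.comp_appTop, e1]
  congr 1
  rw [← CommRingCat.comp_apply, ← Scheme.Hom.comp_appTop, e2]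
  rfl

theorem scl_specMap {W : Type u} [CommRing W] [Algebra k W] (r : k) :
    (Scheme.ΓSpecIso (CommRingCat.of W)).inv (algebraMap k W r) =
      scl (Spec.map (CommRingCat.ofHom (algebraMap k W))) ⊤ r := by
  rw [scl_top]
  exact ConcreteCategory.congr_hom (Scheme.ΓSpecIso_inv_naturality (CommRingCat.ofHom (algebraMap k W))) r

theorem appTop_toSpec {Y : Scheme.{u}} {W : CommRingCat.{u}} (ψ : W ⟶ Γ(Y, ⊤)) (z : W) :
    (Y.toSpecΓ ≫ Spec.map ψ).appTop ((Scheme.ΓSpecIso W).inv z) = ψ z := by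
  simp only [Scheme.Hom.comp_appTop, Scheme.toSpecΓ_appTop, Scheme.ΓSpecIso_naturality]
  show ψ ((Scheme.ΓSpecIso W).hom ((Scheme.ΓSpecIso W).inv z)) = _
  rw [← CommRingCat.comp_apply (Scheme.ΓSpecIso W).inv, Iso.inv_hom_id]
  rfl

include halg b in
/-- The universal object. -/
theorem exists_universal [CompactSpace X.left] (Z : Over (Spec (CommRingCat.of k))) [IsAffine Z.left]
    [Algebra k Γ(Z.left, ⊤)] (halgZ : algebraMap k Γ(Z.left, ⊤) = scl Z.hom ⊤) :
    ∃ (M : Over (Spec (CommRingCat.of k))) (_ : IsAffine M.left) (ev : X ⊗ M ⟶ Z),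
      (∀ (S : Over (Spec (CommRingCat.of k))) (f : X ⊗ S ⟶ Z), ∃! g : S ⟶ M, (X ◁ g) ≫ ev = f) ∧
      (Algebra.FiniteType k Γ(Z.left, ⊤) → LocallyOfFiniteType M.hom) := by
  let W := WRing (C := Γ(Z.left, ⊤)) b
  let M : Over (Spec (CommRingCat.of k)) := Over.mk (Spec.map (CommRingCat.ofHom (algebraMap k W)))
  let θ : CommRingCat.of W ⟶ Γ(M.left, ⊤) := (Scheme.ΓSpecIso (CommRingCat.of W)).inv
  have hθk : ∀ r : k, θ (algebraMap k W r) = scl M.hom ⊤ r := fun r => scl_specMap r
  let w : Γ(Z.left, ⊤) → ι → Γ(M.left, ⊤) := fun c i => θ (wc b c i)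
  have hw : Coords b Z M w :=
    ⟨fun c c' i => by simp only [w, wc_add, map_add],
      fun r i => by
        simp only [w, ← halgZ, wc_algebraMap, halg]
        exact hθk _,
      fun c c' i => by
        simp only [w, wc_mul, map_sum, map_mul θ.hom]
        exact Finset.sum_congr rfl fun a _ => Finset.sum_congr rfl fun a' _ => congrArg (· * _) (hθk _)⟩
  obtain ⟨ev, hev⟩ := exists_hom_of_coords halg b hw
  refine ⟨M, inferInstanceAs (IsAffine (Spec (CommRingCat.of W))), ev, fun S f => ?_, fun hZ => ?_⟩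
  · obtain ⟨s, hs, hsf⟩ := exists_coords_of_hom halg b f
    have hE := bijective_expTop (X := X) S (b := b) (by
      have e : (scl X.hom ⊤).toAlgebra = (inferInstance : Algebra k Γ(X.left, ⊤)) :=
        Algebra.algebra_ext _ _ fun r => congrFun (congrArg DFunLike.coe halg.symm) r
      rw [e]
      exact ⟨b.linearIndependent, b.span_eq.ge⟩)
    letI : Algebra k Γ(S.left, ⊤) := (scl S.hom ⊤).toAlgebra
    obtain ⟨ψ, hψ, hψu⟩ := existsUnique_lift b s hs.add
      (fun r i => by rw [halgZ, hs.const, halg]; rfl)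
      (fun c c' i => by rw [hs.mul]; rfl)
    let g₀ : S.left ⟶ M.left := S.left.toSpecΓ ≫ Spec.map (CommRingCat.ofHom ψ.toRingHom)
    have hg₀ : ∀ z : W, g₀.appTop (θ z) = ψ z := fun z => appTop_toSpec (CommRingCat.ofHom ψ.toRingHom) z
    have hgw : g₀ ≫ M.hom = S.hom := hom_ext_spec fun r => by
      rw [← scl_comp, ← hθk, hg₀]
      exact ψ.commutes r
    refine ⟨Over.homMk g₀ hgw, ?_, fun g hg => ?_⟩
    · refine Over.OverMorphism.ext (ext_of_isAffine (CommRingCat.hom_ext (RingHom.ext fun c => ?_)))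
      rw [whisker_appTop b ev hev, hsf]
      congr 1
      funext i
      show g₀.appTop (θ (wc b c i)) = _
      rw [hg₀, hψ]
    · haveI : IsAffine M.left := inferInstanceAs (IsAffine (Spec (CommRingCat.of W)))
      refine Over.OverMorphism.ext (ext_of_isAffine (CommRingCat.hom_ext (RingHom.ext fun z => ?_)))
      obtain ⟨z, rfl⟩ := (ConcreteCategory.bijective_of_isIso θ).2 z
      show g.left.appTop (θ z) = g₀.appTop (θ z)
      rw [hg₀]
      let ψ' : W →ₐ[k] Γ(S.left, ⊤) :=
        { (θ ≫ g.left.appTop).hom with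
          commutes' := fun r => by
            show g.left.appTop (θ (algebraMap k W r)) = _
            rw [hθk, scl_comp, Over.w]
            rfl }
      have hψ' : ψ' = ψ := hψu ψ' fun c i => congrFun
        (hE.1 (a₁ := fun i => g.left.appTop (w c i)) (a₂ := s c) (by rw [← whisker_appTop b ev hev, hg, hsf])) i
      exact DFunLike.congr_fun hψ' z
  · exact (HasRingHomProperty.Spec_iff (P := @LocallyOfFiniteType)).2
      (show (algebraMap k W).FiniteType from RingHom.finiteType_algebraMap.2 (finiteType_wring b))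

end coords

/-- The scheme of morphisms into an affine scheme is representable. -/
theorem exists_representable (X : Over (Spec (CommRingCat.of k))) [CompactSpace ↥X.left]
    (hfin : (X.hom.appTop.hom.comp (Scheme.ΓSpecIso (CommRingCat.of k)).inv.hom).Finite)
    (Z : Over (Spec (CommRingCat.of k))) [IsAffine Z.left] :
    ∃ (M : Over (Spec (CommRingCat.of k))) (_ : IsAffine M.left) (ev : X ⊗ M ⟶ Z),
      (∀ (S : Over (Spec (CommRingCat.of k))) (f : X ⊗ S ⟶ Z), ∃! g : S ⟶ M, (X ◁ g) ≫ ev = f) ∧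
      (LocallyOfFiniteType Z.hom → LocallyOfFiniteType M.hom) := by
  letI aH : Algebra k Γ(X.left, ⊤) := (scl X.hom ⊤).toAlgebra
  haveI : Module.Finite k Γ(X.left, ⊤) := by
    have h : (scl X.hom ⊤).Finite := by rw [scl_top]; exact hfin
    exact h
  letI aC : Algebra k Γ(Z.left, ⊤) := (scl Z.hom ⊤).toAlgebra
  obtain ⟨M, hM, ev, h1, h2⟩ := exists_universal (X := X) rfl (Module.Free.chooseBasis k Γ(X.left, ⊤)) Z rfl
  refine ⟨M, hM, ev, h1, fun hZ => h2 ?_⟩
  have h3 : (Scheme.Hom.appTop Z.hom).hom.FiniteType :=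
    (HasRingHomProperty.iff_of_isAffine (P := @LocallyOfFiniteType)).1 hZ
  have h4 : (scl Z.hom ⊤).FiniteType := by
    rw [scl_top, CommRingCat.hom_comp]
    exact RingHom.FiniteType.comp h3 (RingHom.FiniteType.of_surjective _
      (ConcreteCategory.bijective_of_isIso (Scheme.ΓSpecIso (CommRingCat.of k)).inv).2)
  exact h4

end Groth.Agent.H23Hom
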