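import Mathlib

/-!
# Functions on products of schemes over a field
-/

set_option autoImplicit false
set_option linter.style.haveILetI false
set_option linter.unusedSectionVars false
set_option backward.isDefEq.respectTransparency false

universe u

open CategoryTheory CategoryTheory.Limits AlgebraicGeometry Opposite TopologicalSpace

noncomputable section

namespace Groth.Agent.H23Hom

variable {k : Type u} [Field k] {X T Y : Scheme.{u}}

/-- Constants as functions. -/
def scl (f : X ⟶ Spec (CommRingCat.of k)) (U : X.Opens) : k →+* Γ(X, U) :=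
  ((Scheme.ΓSpecIso (CommRingCat.of k)).inv ≫ f.appLE ⊤ U le_top).hom

/-- Restriction. -/
def res {U U' : X.Opens} (h : U' ≤ U) : Γ(X, U) →+* Γ(X, U') := (X.presheaf.map (homOfLE h).op).hom

theorem res_res {U U' U'' : X.Opens} (h : U' ≤ U) (h' : U'' ≤ U') (a : Γ(X, U)) :
    res h' (res h a) = res (h'.trans h) a :=
  (ConcreteCategory.congr_hom (X.presheaf.map_comp (homOfLE h).op (homOfLE h').op) a).symm

theorem res_self {U : X.Opens} (h : U ≤ U) (a : Γ(X, U)) : res h a = a :=
  ConcreteCategory.congr_hom (X.presheaf.map_id (op U)) a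

theorem res_scl (f : X ⟶ Spec (CommRingCat.of k)) {U U' : X.Opens} (h : U' ≤ U) (c : k) :
    res h (scl f U c) = scl f U' c :=
  ConcreteCategory.congr_hom (Scheme.Hom.appLE_map f (U := ⊤) le_top (homOfLE h).op)
    ((Scheme.ΓSpecIso (CommRingCat.of k)).inv c)

theorem appLE_res {p : Y ⟶ X} {U U' : X.Opens} {W W' : Y.Opens} (e : W ≤ p ⁻¹ᵁ U) (e' : W' ≤ p ⁻¹ᵁ U')
    (h : U' ≤ U) (h' : W' ≤ W) (a : Γ(X, U)) :
    res h' (p.appLE U W e a) = p.appLE U' W' e' (res h a) := by
  refine (ConcreteCategory.congr_hom (Scheme.Hom.appLE_map p e (homOfLE h').op) a).trans ?_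
  exact (ConcreteCategory.congr_hom (Scheme.Hom.map_appLE p e' (homOfLE h).op) a).symm

theorem eq_of_forall_affine {U : X.Opens} {a b : Γ(X, U)}
    (h : ∀ (W : X.Opens) (hW : W ≤ U), IsAffineOpen W → res hW a = res hW b) : a = b := by
  refine X.IsSheaf.section_ext fun x hx => ?_
  obtain ⟨_, ⟨W, hW, rfl⟩, hxW, hWU⟩ := X.isBasis_affineOpens.exists_subset_of_mem_open hx U.2
  exact ⟨W, hWU, hxW, h W hWU hW⟩

variable {f : X ⟶ Spec (CommRingCat.of k)} {g : T ⟶ Spec (CommRingCat.of k)}
  {p : Y ⟶ X} {q : Y ⟶ T}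

/-- The piece of the product over two opens. -/
abbrev box (p : Y ⟶ X) (q : Y ⟶ T) (U : X.Opens) (V : T.Opens) : Y.Opens := p ⁻¹ᵁ U ⊓ q ⁻¹ᵁ V

/-- The first pullback. -/
def pl (p : Y ⟶ X) (q : Y ⟶ T) (U : X.Opens) (V : T.Opens) : Γ(X, U) →+* Γ(Y, box p q U V) :=
  (p.appLE U (box p q U V) inf_le_left).hom

/-- The second pullback. -/
def pr (p : Y ⟶ X) (q : Y ⟶ T) (U : X.Opens) (V : T.Opens) : Γ(T, V) →+* Γ(Y, box p q U V) :=
  (q.appLE V (box p q U V) inf_le_right).hom

theorem box_mono {U U' : X.Opens} {V V' : T.Opens} (hU : U' ≤ U) (hV : V' ≤ V) : box p q U' V' ≤ box p q U V :=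
  inf_le_inf (p.preimage_mono hU) (q.preimage_mono hV)

theorem res_pl {U U' : X.Opens} {V V' : T.Opens} (hU : U' ≤ U) (hV : V' ≤ V) (a : Γ(X, U)) :
    res (box_mono (p := p) (q := q) hU hV) (pl p q U V a) = pl p q U' V' (res hU a) :=
  appLE_res _ _ hU _ a

theorem res_pr {U U' : X.Opens} {V V' : T.Opens} (hU : U' ≤ U) (hV : V' ≤ V) (a : Γ(T, V)) :
    res (box_mono (p := p) (q := q) hU hV) (pr p q U V a) = pr p q U' V' (res hV a) :=
  appLE_res _ _ hV _ a

theorem pl_scl (H : IsPullback p q f g) (U : X.Opens) (V : T.Opens) (c : k) :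
    pl p q U V (scl f U c) = pr p q U V (scl g V c) := by
  refine (ConcreteCategory.congr_hom (Scheme.Hom.appLE_comp_appLE p f ⊤ U _ le_top inf_le_left)
    ((Scheme.ΓSpecIso (CommRingCat.of k)).inv c)).trans ?_
  refine Eq.trans ?_ (ConcreteCategory.congr_hom (Scheme.Hom.appLE_comp_appLE q g ⊤ V _ le_top inf_le_right)
    ((Scheme.ΓSpecIso (CommRingCat.of k)).inv c)).symm
  simp only [H.w]

open scoped TensorProduct in
/-- On affine pieces the functions are the tensor product. -/
theorem affine_basis (H : IsPullback p q f g) {U : X.Opens} (hU : IsAffineOpen U) {V : T.Opens}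
    (hV : IsAffineOpen V) {Λ : Type u} (r : Λ → Γ(T, V))
    (hr : letI := (scl g V).toAlgebra; LinearIndependent k r ∧ ⊤ ≤ Submodule.span k (Set.range r)) :
    Function.Bijective fun a : Λ →₀ Γ(X, U) => a.sum fun l a => pl p q U V a * pr p q U V (r l) := by
  classical
  letI := (scl g V).toAlgebra
  letI := (scl f U).toAlgebra
  let b := Module.Basis.mk hr.1 hr.2
  have hP := (isIso_pushoutSection_iff H le_top le_top rfl).1
    (isIso_pushoutSection_of_isAffineOpen H (US := ⊤) (UT := V) (UX := U) le_top le_top rfl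
      (isAffineOpen_top _) hV hU)
  have hP' : IsPushout (CommRingCat.ofHom (algebraMap k Γ(X, U))) (CommRingCat.ofHom (algebraMap k Γ(T, V)))
      (p.appLE U (box p q U V) inf_le_left) (q.appLE V (box p q U V) inf_le_right) :=
    hP.of_iso (Scheme.ΓSpecIso (CommRingCat.of k)) (Iso.refl _) (Iso.refl _) (Iso.refl _)
      (by rw [Iso.refl_hom, Category.comp_id]; exact (Iso.hom_inv_id_assoc _ _).symm)
      (by rw [Iso.refl_hom, Category.comp_id]; exact (Iso.hom_inv_id_assoc _ _).symm)
      (by simp) (by simp)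
  let e := (CommRingCat.isPushout_tensorProduct k Γ(X, U) Γ(T, V)).isoIsPushout _ _ hP'
  have key : ∀ (a : Γ(X, U)) (c : Γ(T, V)), e.hom (a ⊗ₜ[k] c) = pl p q U V a * pr p q U V c := fun a c => by
    have h1 : e.hom (a ⊗ₜ[k] 1) = pl p q U V a :=
      ConcreteCategory.congr_hom (IsPushout.inl_isoIsPushout_hom _ _ (CommRingCat.isPushout_tensorProduct k Γ(X, U) Γ(T, V)) hP') a
    have h2 : e.hom ((1 : Γ(X, U)) ⊗ₜ[k] c) = pr p q U V c :=
      ConcreteCategory.congr_hom (IsPushout.inr_isoIsPushout_hom _ _ (CommRingCat.isPushout_tensorProduct k Γ(X, U) Γ(T, V)) hP') c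
    rw [← h1, ← h2, ← map_mul]
    congr 1
    exact ((Algebra.TensorProduct.tmul_mul_tmul _ _ _ _).trans (by rw [mul_one, one_mul])).symm
  have hfun : (fun a : Λ →₀ Γ(X, U) => a.sum fun l a => pl p q U V a * pr p q U V (r l)) =
      fun a => e.hom ((TensorProduct.equivFinsuppOfBasisRight b).symm a) := funext fun a => by
    rw [TensorProduct.equivFinsuppOfBasisRight_symm_apply, map_finsuppSum]
    refine Finsupp.sum_congr fun l _ => ?_
    rw [key, Module.Basis.mk_apply]
  rw [hfun]
  exact (ConcreteCategory.bijective_of_isIso e.hom).comp (LinearEquiv.bijective _)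

/-- The combination with coefficients in functions on the first factor. -/
def comb (p : Y ⟶ X) (q : Y ⟶ T) (U : X.Opens) (V : T.Opens) {Λ : Type u} (r : Λ → Γ(T, V))
    (a : Λ →₀ Γ(X, U)) : Γ(Y, box p q U V) :=
  a.sum fun l a => pl p q U V a * pr p q U V (r l)

theorem res_comb {U U' : X.Opens} (hU : U' ≤ U) {V : T.Opens} {Λ : Type u} (r : Λ → Γ(T, V))
    (a : Λ →₀ Γ(X, U)) :
    res (box_mono (p := p) (q := q) hU le_rfl) (comb p q U V r a) =
      comb p q U' V r (a.mapRange (res hU) (map_zero _)) := by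
  rw [comb, comb, map_finsuppSum, Finsupp.sum_mapRange_index (by simp)]
  refine Finsupp.sum_congr fun l _ => ?_
  rw [map_mul, res_pl hU le_rfl, res_pr hU le_rfl, res_self]

theorem comb_injective (H : IsPullback p q f g) (U : X.Opens) {V : T.Opens} (hV : IsAffineOpen V) {Λ : Type u}
    (r : Λ → Γ(T, V)) (hr : letI := (scl g V).toAlgebra; LinearIndependent k r ∧ ⊤ ≤ Submodule.span k (Set.range r)) :
    Function.Injective (comb p q U V r) := by
  intro a a' h
  refine Finsupp.ext fun l => eq_of_forall_affine fun W hW hWa => ?_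
  have h2 := congrArg (res (box_mono (p := p) (q := q) hW le_rfl)) h
  rw [res_comb, res_comb] at h2
  exact DFunLike.congr_fun ((affine_basis H hWa hV r hr).1 h2) l

theorem comb_surjective (H : IsPullback p q f g) [CompactSpace X] {V : T.Opens} (hV : IsAffineOpen V) {Λ : Type u}
    (r : Λ → Γ(T, V)) (hr : letI := (scl g V).toAlgebra; LinearIndependent k r ∧ ⊤ ≤ Submodule.span k (Set.range r)) :
    Function.Surjective (comb p q ⊤ V r) := by
  classical
  intro z
  obtain ⟨G, hG, hGeq⟩ := (isCompact_iff_finite_and_eq_biUnion_affineOpens (U := (⊤ : X.Opens))).1 isCompact_univ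
  haveI := hG.fintype
  choose a ha using fun U : G => (affine_basis H U.1.2 hV r hr).2 (res (box_mono le_top le_rfl) z)
  have ha' : ∀ (U : G) (U' : X.Opens) (h : U' ≤ U.1.1),
      comb p q U' V r ((a U).mapRange (res h) (map_zero _)) = res (box_mono le_top le_rfl) z := fun U U' h => by
    rw [← res_comb h, show comb p q U.1.1 V r (a U) = _ from ha U, res_res]
  let F : G → X.Opens := fun U => U.1.1
  have hcov : (⊤ : X.Opens) ≤ iSup F := by
    rw [hGeq]
    exact iSup₂_le fun W hW => le_iSup F ⟨W, hW⟩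
  have hcompat : ∀ l, TopCat.Presheaf.IsCompatible X.sheaf.1 F fun U => a U l := fun l U U' => by
    have h1 := comb_injective H (F U ⊓ F U') hV r hr ((ha' U _ inf_le_left).trans (ha' U' _ inf_le_right).symm)
    have h2 := DFunLike.congr_fun h1 l
    rw [Finsupp.mapRange_apply, Finsupp.mapRange_apply] at h2
    exact h2
  choose h hh _ using fun l => TopCat.Sheaf.existsUnique_gluing' X.sheaf F ⊤ (fun U => homOfLE le_top) hcov _
    (hcompat l)
  let S : Finset Λ := Finset.univ.biUnion fun U : G => (a U).support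
  have hS : ∀ l, l ∉ S → h l = 0 := fun l hl => by
    refine X.IsSheaf.section_ext fun x hx => ?_
    obtain ⟨U, hU⟩ := Opens.mem_iSup.1 (hcov hx)
    refine ⟨F U, le_top, hU, ?_⟩
    rw [map_zero]
    have h4 : a U l = 0 := by
      by_contra h5
      exact hl (Finset.mem_biUnion.2 ⟨U, Finset.mem_univ _, Finsupp.mem_support_iff.2 h5⟩)
    rw [← h4]
    exact hh l U
  let A : Λ →₀ Γ(X, (⊤ : X.Opens)) := Finsupp.onFinset S h fun l hl => by_contra fun h' => hl (hS l h')
  refine ⟨A, Y.IsSheaf.section_ext fun y hy => ?_⟩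
  obtain ⟨U, hU⟩ := Opens.mem_iSup.1 (hcov (show p y ∈ (⊤ : X.Opens) from trivial))
  refine ⟨box p q (F U) V, box_mono le_top le_rfl, ⟨hU, hy.2⟩, ?_⟩
  refine (res_comb le_top r A).trans ?_
  refine Eq.trans ?_ (ha U)
  refine congrArg (comb p q (F U) V r) (Finsupp.ext fun l => ?_)
  rw [Finsupp.mapRange_apply]
  exact hh l U

/-- The combination with coefficients in functions on the second factor. -/
def exp (p : Y ⟶ X) (q : Y ⟶ T) (V : T.Opens) {ι : Type u} [Fintype ι] (b : ι → Γ(X, (⊤ : X.Opens)))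
    (s : ι → Γ(T, V)) : Γ(Y, box p q ⊤ V) :=
  ∑ i, pl p q ⊤ V (b i) * pr p q ⊤ V (s i)

theorem res_exp {V V' : T.Opens} (hV : V' ≤ V) {ι : Type u} [Fintype ι] (b : ι → Γ(X, (⊤ : X.Opens)))
    (s : ι → Γ(T, V)) :
    res (box_mono (p := p) (q := q) le_rfl hV) (exp p q V b s) = exp p q V' b (fun i => res hV (s i)) := by
  rw [exp, exp, map_sum]
  refine Finset.sum_congr rfl fun i _ => ?_
  rw [map_mul, res_pl le_rfl hV, res_pr le_rfl hV, res_self]

variable {ι : Type u} [Fintype ι] {b : ι → Γ(X, (⊤ : X.Opens))}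

theorem exp_bijective_affine (H : IsPullback p q f g) [CompactSpace X]
    (hb : letI := (scl f ⊤).toAlgebra; LinearIndependent k b ∧ ⊤ ≤ Submodule.span k (Set.range b))
    {V : T.Opens} (hV : IsAffineOpen V) : Function.Bijective (exp p q V b) := by
  classical
  letI := (scl f (⊤ : X.Opens)).toAlgebra
  letI := (scl g V).toAlgebra
  let B := Module.Free.chooseBasis k Γ(T, V)
  let bb := Module.Basis.mk hb.1 hb.2
  have hr : LinearIndependent k B ∧ ⊤ ≤ Submodule.span k (Set.range B) := ⟨B.linearIndependent, B.span_eq.ge⟩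
  have key : ∀ (s : ι → Γ(T, V)) (A : Module.Free.ChooseBasisIndex k Γ(T, V) →₀ Γ(X, (⊤ : X.Opens))),
      (∀ i l, bb.repr (A l) i = B.repr (s i) l) → exp p q V b s = comb p q ⊤ V B A := by
    intro s A hA
    let S : Finset (Module.Free.ChooseBasisIndex k Γ(T, V)) :=
      A.support ∪ Finset.univ.biUnion fun i => (B.repr (s i)).support
    have hL : exp p q V b s = ∑ i, ∑ l ∈ S, pr p q ⊤ V (scl g V (B.repr (s i) l)) * (pl p q ⊤ V (b i) * pr p q ⊤ V (B l)) := by
      refine Finset.sum_congr rfl fun i _ => ?_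
      have hs : s i = ∑ l ∈ S, scl g V (B.repr (s i) l) * B l := by
        conv_lhs => rw [← B.linearCombination_repr (s i)]
        rw [Finsupp.linearCombination_apply, Finsupp.sum_of_support_subset _
          (s := S) (fun l hl => Finset.mem_union_right _ (Finset.mem_biUnion.2 ⟨i, Finset.mem_univ i, hl⟩)) _ (by simp)]
        rfl
      conv_lhs => rw [hs, map_sum, Finset.mul_sum]
      refine Finset.sum_congr rfl fun l _ => ?_
      rw [map_mul]; ring
    rw [hL, Finset.sum_comm, comb, Finsupp.sum_of_support_subset _ (Finset.subset_union_left (s₂ :=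
      Finset.univ.biUnion fun i => (B.repr (s i)).support)) _ (by simp)]
    refine Finset.sum_congr rfl fun l _ => ?_
    have hAl : A l = ∑ i, scl f ⊤ (B.repr (s i) l) * b i := by
      conv_lhs => rw [← bb.sum_repr (A l)]
      refine Finset.sum_congr rfl fun i _ => ?_
      rw [hA, Module.Basis.mk_apply]
      rfl
    rw [hAl, map_sum, Finset.sum_mul]
    refine Finset.sum_congr rfl fun i _ => ?_
    rw [map_mul, pl_scl H]; ring
  have mkA : ∀ s : ι → Γ(T, V), ∃ A : Module.Free.ChooseBasisIndex k Γ(T, V) →₀ Γ(X, (⊤ : X.Opens)), ∀ i l, bb.repr (A l) i = B.repr (s i) l := fun s => by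
    refine ⟨Finsupp.onFinset (Finset.univ.biUnion fun i => (B.repr (s i)).support)
      (fun l => bb.equivFun.symm fun i => B.repr (s i) l) fun l hl => ?_, fun i l => ?_⟩
    · by_contra hS
      refine hl ?_
      have : (fun i => B.repr (s i) l) = 0 := funext fun i => Finsupp.notMem_support_iff.1 fun h =>
        hS (Finset.mem_biUnion.2 ⟨i, Finset.mem_univ _, h⟩)
      show bb.equivFun.symm (fun i => B.repr (s i) l) = 0
      rw [this, map_zero]
    · show bb.repr (bb.equivFun.symm fun i => B.repr (s i) l) i = _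
      rw [← Module.Basis.equivFun_apply, LinearEquiv.apply_symm_apply]
  constructor
  · intro s s' h
    obtain ⟨A, hA⟩ := mkA s
    obtain ⟨A', hA'⟩ := mkA s'
    rw [key s A hA, key s' A' hA'] at h
    have := comb_injective H ⊤ hV B hr h
    funext i
    refine B.repr.injective (Finsupp.ext fun l => ?_)
    rw [← hA, ← hA', this]
  · intro z
    obtain ⟨A, rfl⟩ := comb_surjective H hV B hr z
    let s : ι → Γ(T, V) := fun i => B.repr.symm (A.mapRange (fun a => bb.repr a i) (by simp))
    exact ⟨s, key s A fun i l => by simp [s]⟩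

/-- Functions on the product with a scheme are combinations of a basis. -/
theorem exp_bijective (H : IsPullback p q f g) [CompactSpace X]
    (hb : letI := (scl f ⊤).toAlgebra; LinearIndependent k b ∧ ⊤ ≤ Submodule.span k (Set.range b))
    (V : T.Opens) : Function.Bijective (exp p q V b) := by
  classical
  have hinj : ∀ V : T.Opens, Function.Injective (exp p q V b) := fun V s s' h => by
    funext i
    refine eq_of_forall_affine fun W hW hWa => ?_
    have h2 := congrArg (res (box_mono (p := p) (q := q) le_rfl hW)) h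
    rw [res_exp, res_exp] at h2
    exact congrFun ((exp_bijective_affine H hb hWa).1 h2) i
  refine ⟨hinj V, fun z => ?_⟩
  let J := {W : T.Opens // W ≤ V ∧ IsAffineOpen W}
  choose s hs using fun W : J => (exp_bijective_affine H hb W.2.2).2 (res (box_mono le_rfl W.2.1) z)
  let F : J → T.Opens := fun W => W.1
  have hs' : ∀ (W : J) (W' : T.Opens) (h : W' ≤ W.1),
      exp p q W' b (fun i => res h (s W i)) = res (box_mono le_rfl (h.trans W.2.1)) z := fun W W' h => by
    rw [← res_exp h, hs W, res_res]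
  have hcov : V ≤ iSup F := fun t ht => by
    obtain ⟨_, ⟨W, hW, rfl⟩, hxW, hWU⟩ := T.isBasis_affineOpens.exists_subset_of_mem_open ht V.2
    exact Opens.mem_iSup.2 ⟨⟨W, hWU, hW⟩, hxW⟩
  choose t ht _ using fun i => TopCat.Sheaf.existsUnique_gluing' T.sheaf F V (fun W => homOfLE W.2.1) hcov
    (fun W => s W i) fun W W' => congrFun
      (hinj _ ((hs' W _ inf_le_left).trans (hs' W' _ inf_le_right).symm)) i
  refine ⟨t, Y.IsSheaf.section_ext fun y hy => ?_⟩
  obtain ⟨W, hW⟩ := Opens.mem_iSup.1 (hcov hy.2)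
  refine ⟨box p q ⊤ W.1, box_mono le_rfl W.2.1, ⟨trivial, hW⟩, ?_⟩
  refine (res_exp W.2.1 b t).trans (Eq.trans ?_ (hs W))
  exact congrArg (exp p q W.1 b) (funext fun i => ht i W)

end Groth.Agent.H23Hom
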